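import Cfsg.Agent.H373.Recog
import Cfsg.Agent.H360.Iso.Basic
import Cfsg.Prelude.Def_Classification2

/-!
# Exceptional groups are recognized by their element orders (helper366, S3483): interface

* `Cl` : the classification; `Rcg M` : `M` is recognized by its set of element orders among the finite groups in
  `Type u`;
* `Iz T n` : `n` is an isolated odd number of `T`;
* `Frm` : the frame of a group with two coprime isolated numbers (proved in `H366/X/Frame.lean`, huge closure; take it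
  as a hypothesis);
* `rcg_of_frame` : the assembly of a row from identification, covers and automorphisms.
-/

set_option autoImplicit false

namespace Cfsg.Agent.H366.X

open Cfsg Cfsg.Agent.H360.Iso Cfsg.Agent.H373.Recog

universe u v

/-- the classification -/
def Cl : Prop := ∀ (T : Type u) [Group T] [Finite T] [IsSimpleGroup T], Cfsg.IsKnownSimple' T

/-- `M` is recognized by its element orders -/
def Rcg (M : Type v) [Group M] : Prop := ∀ (G : Type u) [Group G] [Finite G],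
  Set.range (orderOf : G → ℕ) = Set.range (orderOf : M → ℕ) → Nonempty (G ≃* M)

/-- `n` is an isolated odd number of `T` -/
structure Iz (T : Type*) [Group T] (n : ℕ) : Prop where
  elt : ∃ x : T, orderOf x = n
  iso : ∀ (x : T) (r : ℕ), r.Prime → r ∣ n → r ∣ orderOf x → orderOf x ∣ n
  not_two_dvd : ¬ 2 ∣ n
  one_lt : 1 < n

theorem _root_.Cfsg.Agent.H360.Iso.IsoN.iz {T : Type*} [Group T] {n : ℕ} (h : IsoN T n) : Iz T n :=
  ⟨h.elt, h.iso, h.not_two_dvd, by have := h.big; omega⟩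

theorem Iz.isoN {T : Type*} [Group T] {n : ℕ} (h : Iz T n) (h3 : ¬ 3 ∣ n) (hn : 31 ≤ n) : IsoN T n :=
  ⟨h.elt, h.iso, h.not_two_dvd, h3, hn⟩

theorem Iz.congr {T T' : Type*} [Group T] [Group T'] {n : ℕ} (h : Iz T n) (e : T ≃* T') : Iz T' n := by
  have key : ∀ x : T', orderOf (e.symm x) = orderOf x := fun x =>
    orderOf_injective e.symm.toMonoidHom e.symm.injective x
  obtain ⟨x, hx⟩ := h.elt
  refine ⟨⟨e x, ?_⟩, ?_, h.not_two_dvd, h.one_lt⟩
  · rw [← key, MulEquiv.symm_apply_apply, hx]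
  · intro x r hr hrn hd
    rw [← key] at hd ⊢
    exact h.iso _ r hr hrn hd

/-- equal spectra -/
theorem Iz.of_spec {G M : Type*} [Group G] [Group M]
    (hω : Set.range (orderOf : G → ℕ) = Set.range (orderOf : M → ℕ)) {n : ℕ} (h : Iz M n) : Iz G n := by
  refine ⟨?_, ?_, h.not_two_dvd, h.one_lt⟩
  · have h1 : n ∈ Set.range (orderOf : M → ℕ) := h.elt
    rw [← hω] at h1
    exact h1
  · intro x r hr hrn hd
    have h1 : orderOf x ∈ Set.range (orderOf : M → ℕ) := hω ▸ ⟨x, rfl⟩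
    obtain ⟨y, hy⟩ := h1
    rw [← hy] at hd ⊢
    exact h.iso y r hr hrn hd

/-- the frame of a group with two coprime isolated numbers -/
def Frm : Prop := ∀ (G : Type u) [Group G] [Finite G] (n₁ n₂ : ℕ), (∃ x : G, orderOf x = 2) → Iz G n₁ → Iz G n₂ →
  Nat.Coprime n₁ n₂ →
  ∃ (K : Subgroup G) (_ : K.Normal), Group.IsSolvable K ∧ ∃ (S : Subgroup (G ⧸ K)) (_ : S.Normal),
    IsSimpleGroup S ∧ ¬ IsMulCommutative S ∧ Subgroup.centralizer (S : Set (G ⧸ K)) = ⊥ ∧ ∀ n, Iz G n → Iz S n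

/-- **Assembly of a row.** -/
theorem rcg_of_frame (hF : Frm.{u}) {M : Type v} [Group M] {n₁ n₂ : ℕ} (h0 : ∃ x : M, orderOf x = 2)
    (h1 : Iz M n₁) (h2 : Iz M n₂) (hc : Nat.Coprime n₁ n₂)
    (hid : ∀ (S : Type u) [Group S] [Finite S], IsSimpleGroup S → ¬ IsMulCommutative S →
      (∀ x : S, ∃ y : M, orderOf y = orderOf x) → (∀ n, Iz M n → Iz S n) → Nonempty (S ≃* M))
    (hcov : Cov.{v, u} M) (haut : AutOk M) : Rcg.{u, v} M := by
  intro G _ _ hω
  have h0' : ∃ x : G, orderOf x = 2 := by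
    have h3 : 2 ∈ Set.range (orderOf : M → ℕ) := h0
    rw [← hω] at h3
    exact h3
  obtain ⟨K, hKn, hK, S, hSn, hS, hSna, hSc, hSn⟩ := hF G n₁ n₂ h0' (h1.of_spec hω) (h2.of_spec hω) hc
  obtain ⟨e⟩ := hid S hS hSna (fun x => by
    obtain ⟨g, hg⟩ := exists_lift K (x : G ⧸ K)
    rw [Subgroup.orderOf_coe] at hg
    rw [← hg]
    have h1 : orderOf g ∈ Set.range (orderOf : M → ℕ) := hω ▸ ⟨g, rfl⟩
    exact h1) (fun n hn => hSn n (hn.of_spec hω))
  exact recognize hω K hK S hSc e hcov haut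

end Cfsg.Agent.H366.X
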